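import Groth.Agent.TorSecLib.Points

/-!
Stabilisation of centralisers, and descent of functions from their values at torsion points.
-/

set_option autoImplicit false
set_option maxHeartbeats 800000

noncomputable section

universe u

open TensorProduct WithConv
open Groth.Agent

namespace TorSecLib

attribute [local instance] HopfFF.pointsGroup
attribute [-instance] AlgHom.convInv AlgHom.convGroup

variable {k : Type u} [Field k]

/-- Centralisers of increasing sets of points stabilise. -/
theorem exists_stab {F : Type u} [Field F] [Algebra k F] {A : Type u} [CommRing A] [HopfAlgebra k A]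
    [Algebra.FiniteType k A] (P : ℕ → Set (WithConv (A →ₐ[k] F))) (hP : ∀ n m, m ≠ 0 → n ∣ m → P n ⊆ P m) :
    ∃ n₀ : ℕ, (n₀ : F) ≠ 0 ∧ ∀ n : ℕ, (n : F) ≠ 0 → n₀ ∣ n → ∀ u : WithConv (A →ₐ[k] F),
      (∀ y ∈ P n₀, u * y = y * u) → ∀ y ∈ P n, u * y = y * u := by
  classical
  haveI : IsNoetherianRing (F ⊗[k] A) := Algebra.FiniteType.isNoetherianRing F _
  let S : ℕ → Set (WithConv (F ⊗[k] A →ₐ[F] F)) := fun n => {u | ∀ y ∈ P n, ext u * y = y * ext u}
  let I : ℕ → Ideal (F ⊗[k] A) := fun n => ⨅ u ∈ S n, RingHom.ker u.ofConv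
  obtain ⟨_, ⟨n₀, hn₀, rfl⟩, hmax⟩ := set_has_maximal_iff_noetherian.2 ‹IsNoetherianRing (F ⊗[k] A)›
    {J | ∃ n : ℕ, (n : F) ≠ 0 ∧ I n = J} ⟨I 1, 1, by simp, rfl⟩
  refine ⟨n₀, hn₀, fun n hn hdvd u hu => ?_⟩
  obtain ⟨u', rfl⟩ := (ext (k := k) (F := F) (C := A)).surjective u
  have hn' : n ≠ 0 := fun h => hn (by rw [h, Nat.cast_zero])
  have hSS : S n ⊆ S n₀ := fun w hw y hy => hw y (hP n₀ n hn' hdvd hy)
  have hle : I n₀ ≤ I n := le_iInf₂ fun w hw => iInf₂_le w (hSS hw)
  have heq : I n = I n₀ := (eq_of_le_of_not_lt hle (hmax (I n) ⟨n, hn, rfl⟩)).symm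
  intro y hy
  obtain ⟨y', rfl⟩ := (ext (k := k) (F := F) (C := A)).surjective y
  have hsat : UnipConjLib.Sat y' y' u' := UnipConjLib.sat_closed y' y' (S := S n) (fun w hw => by
      rw [UnipConjLib.Sat, UnipConjLib.cstHom_self, mul_inv_eq_iff_eq_mul]
      refine (ext (k := k) (F := F) (C := A)).injective ?_
      rw [map_mul, map_mul]
      exact hw _ hy) fun a ha => by
    have h1 : a ∈ I n := by
      simp only [I, Submodule.mem_iInf]
      exact ha
    rw [heq] at h1
    simp only [I, Submodule.mem_iInf] at h1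
    exact h1 u' hu
  rw [UnipConjLib.Sat, UnipConjLib.cstHom_self, mul_inv_eq_iff_eq_mul] at hsat
  rw [← map_mul, ← map_mul, hsat]

variable {L : Type u} [Field L] [Algebra k L] {B : Type u} [CommRing B] [HopfAlgebra k B]

/-- A function on the base change with rational values, equivariantly, at dense points is rational. -/
theorem exists_rational [IsGalois k L] {K : Type u} [Field K] [Algebra k K] (f : L →ₐ[k] K)
    (P : Set (WithConv (B →ₐ[k] L)))
    (hdense : ∀ z : L ⊗[k] B, (∀ x ∈ P, (ext.symm x).ofConv z = 0) → z = 0)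
    (hP : ∀ (σ : L ≃ₐ[k] L), ∀ x ∈ P, pushHom σ.toAlgHom x ∈ P) (z : K ⊗[k] B)
    (v : WithConv (B →ₐ[k] L) → L) (hv : ∀ x ∈ P, (ext.symm (pushHom f x)).ofConv z = f (v x))
    (hvσ : ∀ (σ : L ≃ₐ[k] L), ∀ x ∈ P, v (pushHom σ.toAlgHom x) = σ (v x)) :
    ∃ b : B, (1 : K) ⊗ₜ[k] b = z := by
  classical
  letI : Algebra L K := f.toRingHom.toAlgebra
  haveI : IsScalarTower k L K := IsScalarTower.of_algebraMap_eq fun x => (f.commutes x).symm
  have hev : ∀ (g : K →ₗ[L] L) (w : K ⊗[k] B) (x : WithConv (B →ₐ[k] L)),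
      (ext.symm x).ofConv ((g.restrictScalars k).rTensor B w) = g ((ext.symm (pushHom f x)).ofConv w) := fun g w x => by
    induction w using TensorProduct.induction_on with
    | zero => simp
    | add p q hp hq => simp only [map_add, hp, hq]
    | tmul c b =>
      rw [LinearMap.rTensor_tmul, ext_symm_apply_tmul, ext_symm_apply_tmul, pushHom_apply,
        show c * f (x.ofConv b) = x.ofConv b • c by rw [Algebra.smul_def, mul_comm]; rfl, map_smul, smul_eq_mul,
        mul_comm]
      rfl
  obtain ⟨g, hg⟩ := LinearMap.exists_leftInverse_of_injective (Algebra.linearMap L K)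
    (LinearMap.ker_eq_bot.2 f.injective)
  have hgf : ∀ y : L, g (f y) = y := fun y => LinearMap.congr_fun hg y
  set z' := (g.restrictScalars k).rTensor B z with hz'
  have hvz' : ∀ x ∈ P, (ext.symm x).ofConv z' = v x := fun x hx => by rw [hev, hv x hx, hgf]
  have hfix : ∀ σ : L ≃ₐ[k] L, Algebra.TensorProduct.map σ.toAlgHom (AlgHom.id k B) z' = z' := fun σ => by
    refine sub_eq_zero.1 (hdense _ fun x hx => ?_)
    have hσx : pushHom σ.symm.toAlgHom x ∈ P := hP _ x hx
    have e : ∀ w, (ext.symm x).ofConv (Algebra.TensorProduct.map σ.toAlgHom (AlgHom.id k B) w) =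
        σ ((ext.symm (pushHom σ.symm.toAlgHom x)).ofConv w) := fun w => by
      induction w using TensorProduct.induction_on with
      | zero => simp
      | add p q hp hq => simp only [map_add, hp, hq]
      | tmul c b =>
        rw [Algebra.TensorProduct.map_tmul, ext_symm_apply_tmul, ext_symm_apply_tmul, pushHom_apply, map_mul]
        simp
    rw [map_sub, e, hvz' _ hσx, hvz' _ hx, ← hvσ σ _ hσx, sub_eq_zero]
    congr 1
    exact WithConv.ext (AlgHom.ext fun b => by simp [pushHom_apply])
  obtain ⟨b, hb⟩ : ∃ b : B, (1 : L) ⊗ₜ[k] b = z' := by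
    let bs := Module.Free.chooseBasis k B
    let BL := Algebra.TensorProduct.basis L bs
    have hmap : ∀ (σ : L ≃ₐ[k] L) (w : L ⊗[k] B) i,
        BL.repr (Algebra.TensorProduct.map σ.toAlgHom (AlgHom.id k B) w) i = σ (BL.repr w i) := by
      intro σ w i
      induction w using TensorProduct.induction_on with
      | zero => simp
      | add x y hx hy => simp [hx, hy]
      | tmul x v => simp [BL, Algebra.smul_def]
    have hk : ∀ i, ∃ c : k, algebraMap k L c = BL.repr z' i := fun i => by
      have h1 : BL.repr z' i ∈ (⊥ : IntermediateField k L) :=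
        (InfiniteGalois.mem_bot_iff_fixed _).2 fun σ => by rw [← hmap, hfix σ]
      rwa [IntermediateField.mem_bot] at h1
    choose c hc using hk
    refine ⟨∑ i ∈ (BL.repr z').support, c i • bs i, ?_⟩
    conv_rhs => rw [← BL.linearCombination_repr z', Finsupp.linearCombination_apply, Finsupp.sum]
    rw [TensorProduct.tmul_sum]
    refine Finset.sum_congr rfl fun i _ => ?_
    rw [Algebra.TensorProduct.basis_apply, TensorProduct.smul_tmul', TensorProduct.tmul_smul,
      TensorProduct.smul_tmul', ← hc, smul_eq_mul, mul_one, Algebra.algebraMap_eq_smul_one]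
  refine ⟨b, ?_⟩
  set d := (1 : K) ⊗ₜ[k] b - z with hd
  have hd0 : ∀ g' : K →ₗ[L] L, (g'.restrictScalars k).rTensor B d = 0 := fun g' => by
    refine hdense _ fun x hx => ?_
    have h1 : f (v x) = f (x.ofConv b) := by
      rw [← hvz' x hx, ← hb, ext_symm_apply_tmul, one_mul]
    rw [hev, hd, map_sub, ext_symm_apply_tmul, one_mul, pushHom_apply, hv x hx, h1, sub_self, map_zero]
  let bs := Module.Free.chooseBasis k B
  refine sub_eq_zero.1 ((Algebra.TensorProduct.basis K bs).repr.injective ?_)
  rw [map_zero]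
  refine Finsupp.ext fun i => ?_
  rw [Finsupp.zero_apply]
  refine (Module.forall_dual_apply_eq_zero_iff L _).1 fun g' => ?_
  have hr : ∀ w : K ⊗[k] B, (Algebra.TensorProduct.basis L bs).repr ((g'.restrictScalars k).rTensor B w) i =
      g' ((Algebra.TensorProduct.basis K bs).repr w i) := fun w => by
    induction w using TensorProduct.induction_on with
    | zero => simp
    | add p q hp hq => simp only [map_add, Finsupp.add_apply, hp, hq]
    | tmul c b' =>
      rw [LinearMap.rTensor_tmul, Algebra.TensorProduct.basis_repr_tmul, Algebra.TensorProduct.basis_repr_tmul]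
      simp only [LinearMap.coe_restrictScalars, Finsupp.smul_apply, Finsupp.mapRange_apply, smul_eq_mul]
      rw [mul_comm c, IsScalarTower.algebraMap_apply k L K, ← Algebra.smul_def, map_smul, smul_eq_mul, mul_comm]
  rw [← hd, ← hr, hd0, map_zero, Finsupp.zero_apply]

end TorSecLib
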