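import Groth.Agent.TorSecLib.Avg
import Groth.Agent.TorSecLib.Stab
import Groth.Agent.DiagHopfLib.FieldDesc
import Groth.Agent.DiagHopfLib.Groups
import Groth.Agent.MultUnipLib.Descent
import Groth.Agent.UnipSplitLib.Main
import Mathlib.FieldTheory.IsSepClosed

/-!
Extensions of smooth groups of multiplicative type by commutative unipotent groups with a section split.
-/

set_option autoImplicit false
set_option maxHeartbeats 2000000

noncomputable section

universe u

open TensorProduct WithConv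
open Groth.Agent

namespace TorSecLib

attribute [local instance] HopfFF.pointsGroup
attribute [-instance] AlgHom.convInv AlgHom.convGroup

variable {k : Type u} [Field k] {A : Type u} [CommRing A] [HopfAlgebra k A] {B : Type u} [CommRing B] [HopfAlgebra k B]

/-- Conjugation as a homomorphism. -/
def conjHom {G E : Type u} [Group G] [Group E] (u : E) (s : G →* E) : G →* E :=
  ((MulAut.conj u).toMonoidHom).comp s

theorem conjHom_apply {G E : Type u} [Group G] [Group E] (u : E) (s : G →* E) (g : G) :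
    conjHom u s g = u * s g * u⁻¹ := rfl

theorem tor_mono {L : Type u} [Field L] [Algebra k L] {M : Type u} [CommGroup M]
    (e : L ⊗[k] B ≃ₐc[L] MonoidAlgebra L M) {n m : ℕ} (hm : m ≠ 0) (h : n ∣ m) : tor e n ≤ tor e m := fun x hx => by
  obtain ⟨d, rfl⟩ := h
  have hn : n ≠ 0 := fun h => hm (by rw [h, zero_mul])
  rw [mem_tor_iff e hm, pow_mul, (mem_tor_iff e hn x).1 hx, one_pow]

/-- The splitting over a separable closure. -/
theorem exists_split_sep [Algebra.FiniteType k B] (hB : SGA3b.IsMultTypeConst k B) (L : Type u) [Field L]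
    [Algebra k L] [IsSepClosed L] (K : Type u) [Field K] [Algebra k K] (f : L →ₐ[k] K) :
    ∃ (M : Type u) (_ : CommGroup M), Group.FG M ∧ Nonempty (L ⊗[k] B ≃ₐc[L] MonoidAlgebra L M) ∧
      SGA3b.IsDiag K (K ⊗[k] B) := by
  obtain ⟨T, _, _, hT, N, _, ⟨e⟩⟩ := hB
  haveI := hT
  obtain ⟨E⟩ := DiagHopf.exists_split_of_bialgEquiv e
  obtain ⟨k', _, _, _, hsep, M, _, hfg, ⟨e'⟩⟩ :=
    DiagHopf.isotrivial_of_field (K := k) inferInstance (DiagHopf.isMultType_of_split E)
  haveI := hsep
  obtain ⟨E'⟩ := DiagHopf.exists_split_of_bialgEquiv e'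
  obtain ⟨EL, -⟩ := TorusField.exists_split_push E' (IsSepClosed.lift : k' →ₐ[k] L)
  obtain ⟨EK, -⟩ := TorusField.exists_split_push EL f
  exact ⟨M, inferInstance, hfg, DiagHopf.exists_bialgEquiv EL, M, inferInstance, DiagHopf.exists_bialgEquiv EK⟩

theorem exists_retraction [Algebra.FiniteType k A] [Algebra.FiniteType k B] (hB : SGA3b.IsMultTypeConst k B)
    [Algebra.FormallySmooth k B] (ψ : B →ₐc[k] A) (hψ : Function.Injective ψ)
    (J : Ideal A) [J.IsHopfIdeal k] (hJ : J = Ideal.map (ψ : B →+* A) (RingHom.ker (Bialgebra.counitAlgHom k B)))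
    (hU : HopfRep.IsUnipotent k (A ⧸ J)) [Coalgebra.IsCocomm k (A ⧸ J)]
    (σ : A →ₐ[k] B) (hσ : σ.comp (ψ : B →ₐ[k] A) = AlgHom.id k B) :
    ∃ r : A →ₐc[k] B, r.comp ψ = BialgHom.id k B := by
  classical
  let L := SeparableClosure k
  let K := AlgebraicClosure k
  let f : L →ₐ[k] K := IsAlgClosed.lift
  haveI : IsGalois k L := inferInstance
  obtain ⟨M, _, hfg, ⟨e⟩, hdiag⟩ := exists_split_sep hB L K f
  haveI := hfg
  let HtL := WithConv (B →ₐ[k] L)
  let PtL := WithConv (A →ₐ[k] L)
  let PtK := WithConv (A →ₐ[k] K)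
  have hLK : ∀ n : ℕ, (n : L) ≠ 0 → (n : K) ≠ 0 := fun n hn h => hn (f.injective (by rw [map_natCast, h, map_zero]))
  have hne : ∀ n : ℕ, (n : L) ≠ 0 → n ≠ 0 := fun n hn h => hn (by rw [h, Nat.cast_zero])
  -- the set section on points
  let a : HtL → PtL := fun x => toConv (x.ofConv.comp σ)
  have ha : ∀ x, UnipConjLib.resHom L ψ (a x) = x := fun x =>
    WithConv.ext (AlgHom.ext fun b => congrArg x.ofConv (DFunLike.congr_fun hσ b))
  have hnat : ∀ (τ : L ≃ₐ[k] L) x, pushHom τ.toAlgHom (a x) = a (pushHom τ.toAlgHom x) := fun τ x =>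
    WithConv.ext (AlgHom.ext fun c => rfl)
  have hπmem : ∀ (n : ℕ), n ≠ 0 → ∀ (τ : L ≃ₐ[k] L) (x : HtL), x ∈ tor e n → pushHom τ.toAlgHom x ∈ tor e n :=
    fun n hn τ x hx => by
      rw [mem_tor_iff e hn, ← map_pow, (mem_tor_iff e hn x).1 hx, map_one]
  -- stabilisation
  obtain ⟨n₀, hn₀K, hstab⟩ := exists_stab (k := k) (F := K) (A := A)
    (fun n => (fun x => pushHom f (a x)) '' (tor e n : Set HtL))
    (fun n m hm h => Set.image_mono (tor_mono e hm h))
  have hn₀ : (n₀ : L) ≠ 0 := fun h => hn₀K (by rw [← map_natCast f, h, map_zero])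
  have hcommK := ker_comm (F := K) hJ
  have hcommL := ker_comm (F := L) hJ
  -- group structure on torsion points
  let cg : ∀ n, CommGroup (tor e n) := fun n =>
    { (inferInstance : Group (tor e n)) with mul_comm := fun x y => Subtype.ext (mul_comm_pts e x y) }
  have hcard : ∀ n : ℕ, (n : L) ≠ 0 → ∀ [Fintype (tor e n)], ((Fintype.card (tor e n) : ℕ) : L) ≠ 0 := fun n hn _ => by
    rw [← Nat.card_eq_fintype_card]
    exact card_tor_ne_zero e hn
  -- sections over the torsion subgroups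
  have hex : ∀ (n : ℕ) (hn : (n : L) ≠ 0), ∃ s : tor e n →* PtL, (∀ x, UnipConjLib.resHom L ψ (s x) = x) ∧
      ∀ (τ : L ≃ₐ[k] L) (x : tor e n), pushHom τ.toAlgHom (s x) = s ⟨_, hπmem n (hne n hn) τ x x.2⟩ := by
    intro n hn
    letI := cg n
    haveI := finite_tor e hn
    letI : Fintype (tor e n) := Fintype.ofFinite _
    let π : (L ≃ₐ[k] L) → (tor e n ≃* tor e n) := fun τ =>
      { toFun := fun x => ⟨_, hπmem n (hne n hn) τ x x.2⟩
        invFun := fun x => ⟨_, hπmem n (hne n hn) τ.symm x x.2⟩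
        left_inv := fun x => Subtype.ext (WithConv.ext (AlgHom.ext fun b => τ.symm_apply_apply _))
        right_inv := fun x => Subtype.ext (WithConv.ext (AlgHom.ext fun b => τ.apply_symm_apply _))
        map_mul' := fun x y => Subtype.ext (map_mul _ _ _) }
    exact exists_section (UnipConjLib.resHom L ψ) (tor e n).subtype hcommL
      (ker_div hJ hU (hcard n hn)) (fun x => a x) (fun x => ha x) (fun τ => pushHom τ.toAlgHom) π
      (fun τ x hx => by
        rw [MonoidHom.mem_ker, resHom_pushHom, show UnipConjLib.resHom L ψ x = 1 from hx, map_one])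
      (fun τ x => hnat τ x)
  -- homomorphic sections agreeing on the small subgroup agree
  have huniq : ∀ n : ℕ, ∀ hn : (n : L) ≠ 0, ∀ hd : n₀ ∣ n, ∀ S T : tor e n →* PtK,
      (∀ x : tor e n, UnipConjLib.resHom K ψ (S x) = pushHom f (x : HtL)) →
      (∀ x : tor e n, UnipConjLib.resHom K ψ (T x) = pushHom f (x : HtL)) →
      (∀ x : tor e n₀, S (Subgroup.inclusion (tor_mono e (hne n hn) hd) x) =
        T (Subgroup.inclusion (tor_mono e (hne n hn) hd) x)) → S = T := by
    intro n hn hd S T hS hT hagree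
    letI := cg n
    haveI := finite_tor e hn
    letI : Fintype (tor e n) := Fintype.ofFinite _
    obtain ⟨u, hu, huc⟩ := exists_conj (UnipConjLib.resHom K ψ) ((pushHom f).comp (tor e n).subtype) hcommK
      (ker_div hJ hU (fun h => hcard n hn (f.injective (by rw [map_natCast, h, map_zero])))) S T hS hT
    have hiff : ∀ x : tor e n, u * S x = S x * u ↔ u * pushHom f (a x) = pushHom f (a x) * u := fun x => by
      set v := S x * (pushHom f (a x))⁻¹ with hv
      have hvk : v ∈ (UnipConjLib.resHom K ψ).ker := by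
        rw [MonoidHom.mem_ker, hv, map_mul, map_inv, hS, resHom_pushHom, ha, mul_inv_cancel]
      have hSx : S x = v * pushHom f (a x) := by rw [hv, inv_mul_cancel_right]
      clear_value v
      rw [hSx, ← mul_assoc, hcommK u hu v hvk, mul_assoc, mul_assoc, mul_right_inj]
    have hall : ∀ x : tor e n, u * pushHom f (a x) = pushHom f (a x) * u := fun x => by
      refine hstab n (hLK n hn) hd u ?_ _ ⟨x, x.2, rfl⟩
      rintro _ ⟨y, hy, rfl⟩
      refine (hiff (Subgroup.inclusion (tor_mono e (hne n hn) hd) ⟨y, hy⟩)).1 ?_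
      have h := huc (Subgroup.inclusion (tor_mono e (hne n hn) hd) ⟨y, hy⟩)
      rw [← hagree, mul_inv_eq_iff_eq_mul] at h
      exact h
    refine MonoidHom.ext fun x => ?_
    rw [← huc x, (hiff x).2 (hall x), mul_inv_cancel_right]
  choose s hs hsσ using hex
  -- extension of the section of the small subgroup
  have hρ : ∀ n : ℕ, ∀ hn : (n : L) ≠ 0, ∀ hd : n₀ ∣ n, ∃ ρ : tor e n →* PtL,
      (∀ x, UnipConjLib.resHom L ψ (ρ x) = x) ∧
      ∀ x : tor e n₀, ρ (Subgroup.inclusion (tor_mono e (hne n hn) hd) x) = s n₀ hn₀ x := by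
    intro n hn hd
    letI := cg n₀
    haveI := finite_tor e hn₀
    letI : Fintype (tor e n₀) := Fintype.ofFinite _
    obtain ⟨u, hu, huc⟩ := exists_conj (UnipConjLib.resHom L ψ) (tor e n₀).subtype hcommL (ker_div hJ hU (hcard n₀ hn₀))
      ((s n hn).comp (Subgroup.inclusion (tor_mono e (hne n hn) hd))) (s n₀ hn₀) (fun x => hs n hn _) (hs n₀ hn₀)
    refine ⟨conjHom u (s n hn), fun x => ?_, fun x => huc x⟩
    rw [conjHom_apply, map_mul, map_mul, map_inv, hs, show UnipConjLib.resHom L ψ u = 1 from hu, one_mul, inv_one,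
      mul_one]
  choose ρ hρs hρ0 using hρ
  have hρσ : ∀ (n : ℕ) (hn : (n : L) ≠ 0) (hd : n₀ ∣ n) (τ : L ≃ₐ[k] L) (x : tor e n),
      ρ n hn hd ⟨_, hπmem n (hne n hn) τ x x.2⟩ = pushHom τ.toAlgHom (ρ n hn hd x) := by
    intro n hn hd τ x
    let P : tor e n →* tor e n := MonoidHom.mk' (fun y => ⟨_, hπmem n (hne n hn) τ.symm y y.2⟩) fun y z =>
      Subtype.ext (map_mul _ _ _)
    let T : tor e n →* PtL := (pushHom τ.toAlgHom).comp ((ρ n hn hd).comp P)
    have hT : (pushHom f).comp T = (pushHom f).comp (ρ n hn hd) := by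
      refine huniq n hn hd _ _ (fun y => ?_) (fun y => ?_) fun y => ?_
      · show UnipConjLib.resHom K ψ (pushHom f (pushHom τ.toAlgHom (ρ n hn hd (P y)))) = _
        rw [resHom_pushHom, resHom_pushHom, hρs]
        exact congrArg _ (WithConv.ext (AlgHom.ext fun b => τ.apply_symm_apply _))
      · show UnipConjLib.resHom K ψ (pushHom f (ρ n hn hd y)) = _
        rw [resHom_pushHom, hρs]
      · show pushHom f (pushHom τ.toAlgHom (ρ n hn hd (P _))) = pushHom f (ρ n hn hd _)
        rw [hρ0, show P (Subgroup.inclusion (tor_mono e (hne n hn) hd) y) =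
          Subgroup.inclusion (tor_mono e (hne n hn) hd) ⟨_, hπmem n₀ (hne n₀ hn₀) τ.symm y y.2⟩ from rfl, hρ0, hsσ]
        congr 2
        exact Subtype.ext (WithConv.ext (AlgHom.ext fun b => τ.apply_symm_apply _))
    have h := pushHom_injective f (DFunLike.congr_fun hT ⟨_, hπmem n (hne n hn) τ x x.2⟩)
    rw [← h]
    show pushHom τ.toAlgHom (ρ n hn hd (P _)) = _
    congr 2
    exact Subtype.ext (WithConv.ext (AlgHom.ext fun b => τ.symm_apply_apply _))
  -- the extension over the algebraic closure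
  let ψK : K ⊗[k] B →ₐc[K] K ⊗[k] A := Bialgebra.TensorProduct.map (BialgHom.id K K) ψ
  have hψK : Function.Injective ψK := by
    have h1 : ⇑ψK = ⇑(LinearMap.lTensor K (ψ : B →ₐ[k] A).toLinearMap) := funext fun z => by
      induction z using TensorProduct.induction_on with
      | zero => simp
      | add x y hx hy => simp only [map_add, hx, hy]
      | tmul x y => rfl
    rw [h1]
    exact Module.Flat.lTensor_preserves_injective_linearMap _ hψ
  let qJ : A →ₐc[k] A ⧸ J := Bialgebra.Quotient.mkBialgHom (R := k) J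
  let J' := Ideal.map (ψK : K ⊗[k] B →+* K ⊗[k] A) (RingHom.ker (Bialgebra.counitAlgHom K (K ⊗[k] B)))
  haveI : J'.IsHopfIdeal K := UnipSplit.isHopfIdeal_map ψK
  have hU' : HopfRep.IsUnipotent K ((K ⊗[k] A) ⧸ J') := by
    let π : K ⊗[k] A →ₐc[K] K ⊗[k] (A ⧸ J) := Bialgebra.TensorProduct.map (BialgHom.id K K) qJ
    have hπ : Function.Surjective π := by
      intro z
      induction z using TensorProduct.induction_on with
      | zero => exact ⟨0, map_zero _⟩
      | add x y hx hy =>
        obtain ⟨p, rfl⟩ := hx; obtain ⟨q, rfl⟩ := hy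
        exact ⟨p + q, map_add _ _ _⟩
      | tmul x y =>
        obtain ⟨y, rfl⟩ := Ideal.Quotient.mk_surjective y
        exact ⟨x ⊗ₜ y, rfl⟩
    obtain ⟨g, hg⟩ := UnipConjLib.exists_factor π hπ (Bialgebra.Quotient.mkBialgHom (R := K) J') fun z hz => by
      have h1 : z ∈ RingHom.ker (Algebra.TensorProduct.map (AlgHom.id k K) (qJ : A →ₐ[k] A ⧸ J)) := by
        rw [RingHom.mem_ker, ← hz]
        clear hz
        induction z using TensorProduct.induction_on with
        | zero => simp
        | add x y hx hy => simp only [map_add, hx, hy]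
        | tmul x y => rfl
      rw [Algebra.TensorProduct.lTensor_ker (A := K) (qJ : A →ₐ[k] A ⧸ J) Ideal.Quotient.mk_surjective,
        show RingHom.ker (qJ : A →ₐ[k] A ⧸ J) = J from Ideal.mk_ker, hJ] at h1
      refine Ideal.Quotient.eq_zero_iff_mem.2 (Ideal.map_le_iff_le_comap.2 (Ideal.map_le_iff_le_comap.2 fun c hc => ?_) h1)
      have h2 : (1 : K) ⊗ₜ[k] c ∈ RingHom.ker (Bialgebra.counitAlgHom K (K ⊗[k] B)) := by
        rw [RingHom.mem_ker]
        show CoalgebraStruct.counit (R := K) ((1 : K) ⊗ₜ[k] c) = 0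
        rw [TensorProduct.counit_tmul, show CoalgebraStruct.counit (R := k) c = 0 from hc, zero_smul]
      exact Ideal.mem_map_of_mem (ψK : K ⊗[k] B →+* K ⊗[k] A) h2
    refine UnipHopf.isUnipotent_of_exhaustive fun x => ?_
    refine UnipConjLib.exhaustive_quot (f := g) (fun x => ?_)
      (UnipHopf.exhaustive_baseChange (UnipHopf.exhaustive_of_isUnipotent hU)) x
    obtain ⟨z, rfl⟩ := Ideal.Quotient.mk_surjective x
    exact ⟨π z, DFunLike.congr_fun hg z⟩
  haveI : Algebra.FiniteType K (K ⊗[k] A) := inferInstance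
  obtain ⟨r, hr⟩ := UnipSplit.exists_retraction hdiag ψK hψK J' rfl hU'
  -- points of a retraction over the closure
  let rp : (K ⊗[k] A →ₐc[K] K ⊗[k] B) → HtL →* PtK := fun r =>
    (ext (k := k) (F := K) (C := A)).toMonoidHom.comp ((UnipConjLib.resHom K r).comp
      ((ext (k := k) (F := K) (C := B)).symm.toMonoidHom.comp (pushHom f)))
  have hrp : ∀ r : K ⊗[k] A →ₐc[K] K ⊗[k] B, r.comp ψK = BialgHom.id K _ → ∀ x,
      UnipConjLib.resHom K ψ (rp r x) = pushHom f x := fun r hr x => by
    show UnipConjLib.resHom K ψ (ext (UnipConjLib.resHom K r (ext.symm (pushHom f x)))) = _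
    rw [resHom_ext, UnipConjLib.resHom_comp_retraction (ψ := ψK) hr, MulEquiv.apply_symm_apply]
  obtain ⟨u₀, hu₀, hu₀c⟩ : ∃ u ∈ (UnipConjLib.resHom K ψ).ker, ∀ x : tor e n₀,
      u * rp r x * u⁻¹ = pushHom f (s n₀ hn₀ x) := by
    letI := cg n₀
    haveI := finite_tor e hn₀
    letI : Fintype (tor e n₀) := Fintype.ofFinite _
    exact exists_conj (UnipConjLib.resHom K ψ) ((pushHom f).comp (tor e n₀).subtype) hcommK
      (ker_div hJ hU (fun h => hcard n₀ hn₀ (f.injective (by rw [map_natCast, h, map_zero]))))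
      ((rp r).comp (tor e n₀).subtype) ((pushHom f).comp (s n₀ hn₀)) (fun x => hrp r hr x)
      (fun x => by rw [MonoidHom.comp_apply, resHom_pushHom, hs]; rfl)
  obtain ⟨u', rfl⟩ := (ext (k := k) (F := K) (C := A)).surjective u₀
  have hu' : u' ∈ (UnipConjLib.resHom K ψK).ker := by
    rw [MonoidHom.mem_ker] at hu₀ ⊢
    rw [resHom_ext, EmbeddingLike.map_eq_one_iff] at hu₀
    exact hu₀
  let R := r.comp (UnipConjLib.inner u')
  have hR : R.comp ψK = BialgHom.id K _ := UnipConjLib.conj_comp_retraction hu' hr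
  have hRp : ∀ x, rp R x = ext u' * rp r x * (ext u')⁻¹ := fun x => by
    have h1 := congrArg (UnipSplit.push (ext.symm (pushHom f x)).ofConv) (UnipConjLib.comp_inner u' r)
    rw [UnipSplit.push_mul, UnipSplit.push_mul, UnipSplit.push_inv, UnipConjLib.push_cstHom,
      UnipConjLib.cstHom_self] at h1
    show ext (UnipConjLib.resHom K R (ext.symm (pushHom f x))) =
      ext u' * ext (UnipConjLib.resHom K r (ext.symm (pushHom f x))) * (ext u')⁻¹
    rw [← map_inv, ← map_mul, ← map_mul]
    exact congrArg ext h1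
  have hval : ∀ (n : ℕ) (hn : (n : L) ≠ 0) (hd : n₀ ∣ n) (x : tor e n),
      rp R x = pushHom f (ρ n hn hd x) := by
    intro n hn hd x
    refine DFunLike.congr_fun (huniq n hn hd ((rp R).comp (tor e n).subtype) ((pushHom f).comp (ρ n hn hd))
      (fun y => hrp R hR y) (fun y => ?_) fun y => ?_) x
    · rw [MonoidHom.comp_apply, resHom_pushHom, hρs]
    · show rp R (y : HtL) = pushHom f (ρ n hn hd _)
      rw [hρ0, hRp, hu₀c]
  -- descent
  let P : Set HtL := {x | ∃ n : ℕ, (n : L) ≠ 0 ∧ n₀ ∣ n ∧ x ∈ tor e n}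
  have hrat : ∀ c : A, ∃ b : B, (1 : K) ⊗ₜ[k] b = R ((1 : K) ⊗ₜ[k] c) := fun c => by
    let v : HtL → L := fun x => if h : x ∈ P then
      (ρ h.choose h.choose_spec.1 h.choose_spec.2.1 ⟨x, h.choose_spec.2.2⟩).ofConv c else 0
    have hv : ∀ x ∈ P, (ext.symm (pushHom f x)).ofConv (R ((1 : K) ⊗ₜ[k] c)) = f (v x) := fun x hx => by
      have h := hval hx.choose hx.choose_spec.1 hx.choose_spec.2.1 ⟨x, hx.choose_spec.2.2⟩
      simp only [v, dif_pos hx]
      exact congrArg (fun w : PtK => w.ofConv c) h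
    refine exists_rational f P (fun z hz => ?_) (fun τ x hx => ?_) _ v hv fun τ x hx => ?_
    · exact eq_zero_of_tor e hn₀ fun n hn hd x hx => hz x ⟨n, hn, hd, hx⟩
    · obtain ⟨n, hn, hd, hxn⟩ := hx
      exact ⟨n, hn, hd, hπmem n (hne n hn) τ x hxn⟩
    · obtain ⟨n, hn, hd, hxn⟩ := hx
      have hx' : pushHom τ.toAlgHom x ∈ P := ⟨n, hn, hd, hπmem n (hne n hn) τ x hxn⟩
      have key : ∀ (y : HtL) (hy : y ∈ P) (hyn : y ∈ tor e n), f (v y) = f ((ρ n hn hd ⟨y, hyn⟩).ofConv c) :=
        fun y hy hyn => by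
          rw [← hv y hy]
          exact congrArg (fun w : PtK => w.ofConv c) (hval n hn hd ⟨y, hyn⟩)
      apply f.injective
      show f (v _) = f (τ (v x))
      rw [key _ hx' (hπmem n (hne n hn) τ x hxn), hρσ n hn hd τ ⟨x, hxn⟩, pushHom_apply]
      refine congrArg f (congrArg τ (f.injective ?_))
      exact (key x ⟨n, hn, hd, hxn⟩ hxn).symm
  choose r₀ hr₀ using hrat
  have inj : Function.Injective (Algebra.TensorProduct.includeRight : B →ₐ[k] K ⊗[k] B) :=
    Algebra.TensorProduct.includeRight_injective (algebraMap k K).injective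
  let ρA : A →ₐ[k] K ⊗[k] B :=
    ((R : K ⊗[k] A →ₐ[K] K ⊗[k] B).restrictScalars k).comp Algebra.TensorProduct.includeRight
  let rA : A →ₐ[k] B :=
    { toFun := r₀
      map_one' := inj ((hr₀ 1).trans ((map_one ρA).trans (map_one _).symm))
      map_mul' := fun x y => inj ((hr₀ (x * y)).trans ((map_mul ρA x y).trans (by
        rw [map_mul, Algebra.TensorProduct.includeRight_apply, Algebra.TensorProduct.includeRight_apply, hr₀, hr₀]
        rfl)))
      map_zero' := inj ((hr₀ 0).trans ((map_zero ρA).trans (map_zero _).symm))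
      map_add' := fun x y => inj ((hr₀ (x + y)).trans ((map_add ρA x y).trans (by
        rw [map_add, Algebra.TensorProduct.includeRight_apply, Algebra.TensorProduct.includeRight_apply, hr₀, hr₀]
        rfl)))
      commutes' := fun c => inj ((hr₀ _).trans ((AlgHom.commutes ρA c).trans (AlgHom.commutes _ c).symm)) }
  have hrA : ∀ c, (1 : K) ⊗ₜ[k] rA c = R ((1 : K) ⊗ₜ[k] c) := hr₀
  refine ⟨BialgHom.ofAlgHom rA (AlgHom.ext fun c => ?_) (AlgHom.ext fun c => ?_), BialgHom.ext fun b => ?_⟩
  · apply (algebraMap k K).injective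
    show algebraMap k K (CoalgebraStruct.counit (R := k) (rA c)) = algebraMap k K (CoalgebraStruct.counit (R := k) c)
    have h1 : CoalgebraStruct.counit (R := K) ((1 : K) ⊗ₜ[k] rA c) = CoalgebraStruct.counit (R := K) ((1 : K) ⊗ₜ[k] c) := by
      rw [hrA]
      exact CoalgHomClass.counit_comp_apply R _
    rwa [TensorProduct.counit_tmul, TensorProduct.counit_tmul, CommSemiring.counit_apply,
      ← Algebra.algebraMap_eq_smul_one, ← Algebra.algebraMap_eq_smul_one] at h1
  · apply MultUnip.incSq_injective (L := K)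
    show UnipHopf.incSq (k' := K) (Algebra.TensorProduct.map rA rA (CoalgebraStruct.comul (R := k) c)) =
      UnipHopf.incSq (k' := K) (CoalgebraStruct.comul (R := k) (rA c))
    rw [← UnipHopf.comul_one_tmul, hrA, ← CoalgHomClass.map_comp_comul_apply R, UnipHopf.comul_one_tmul]
    generalize CoalgebraStruct.comul (R := k) c = z
    induction z using TensorProduct.induction_on with
    | zero => simp
    | add x y hx hy => simp only [map_add, hx, hy]
    | tmul p q =>
      rw [Algebra.TensorProduct.map_tmul, UnipHopf.incSq_tmul, UnipHopf.incSq_tmul, hrA, hrA]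
      rfl
  · apply inj
    show (1 : K) ⊗ₜ[k] rA (ψ b) = (1 : K) ⊗ₜ[k] b
    rw [hrA]
    exact DFunLike.congr_fun hR ((1 : K) ⊗ₜ[k] b)

end TorSecLib
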