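import Groth.Agent.UnipConjLib.Group
import Mathlib.Algebra.Group.Subgroup.Finite

/-!
Sections over a finite group of an extension with uniquely divisible commutative kernel.
-/

set_option autoImplicit false

universe u v w

namespace TorSecLib

variable {G : Type u} [CommGroup G] [Fintype G] {E : Type v} [Group E] {H : Type w} [Group H] (p : E →* H) (j : G →* H)

/-- The kernel as a commutative group. -/
@[reducible] def kerCommGroup (hcomm : ∀ x ∈ p.ker, ∀ y ∈ p.ker, x * y = y * x) : CommGroup p.ker :=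
  { (inferInstance : Group p.ker) with mul_comm := fun x y => Subtype.ext (hcomm x x.2 y y.2) }

/-- A set section gives a homomorphic one, compatibly with all symmetries. -/
theorem exists_section (hcomm : ∀ x ∈ p.ker, ∀ y ∈ p.ker, x * y = y * x)
    (hdiv : ∀ x ∈ p.ker, ∃! y, y ∈ p.ker ∧ y ^ Fintype.card G = x) (a : G → E) (ha : ∀ g, p (a g) = j g)
    {S : Type*} (φ : S → (E →* E)) (π : S → (G ≃* G)) (hφ : ∀ σ, ∀ x ∈ p.ker, φ σ x ∈ p.ker)
    (hsym : ∀ σ g, φ σ (a g) = a (π σ g)) :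
    ∃ s : G →* E, (∀ g, p (s g) = j g) ∧ ∀ σ g, φ σ (s g) = s (π σ g) := by
  classical
  letI := kerCommGroup p hcomm
  let act : G → (p.ker →* p.ker) := fun g => MonoidHom.mk' (fun x => ⟨a g * x * (a g)⁻¹, (MonoidHom.normal_ker p).conj_mem _ x.2 _⟩)
    fun x y => Subtype.ext (show a g * ((x : E) * y) * (a g)⁻¹ = a g * x * (a g)⁻¹ * (a g * y * (a g)⁻¹) by group)
  let c : G → G → p.ker := fun g h => ⟨a g * a h * (a (g * h))⁻¹, by
    rw [MonoidHom.mem_ker, map_mul, map_mul, map_inv, ha, ha, ha, map_mul, mul_inv_cancel]⟩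
  have hc : ∀ g h i, c g h * c (g * h) i = act g (c h i) * c g (h * i) := fun g h i => Subtype.ext (by
    show a g * a h * (a (g * h))⁻¹ * (a (g * h) * a i * (a (g * h * i))⁻¹) =
      a g * (a h * a i * (a (h * i))⁻¹) * (a g)⁻¹ * (a g * a (h * i) * (a (g * (h * i)))⁻¹)
    rw [mul_assoc g h i]
    group)
  have hbij : Function.Bijective fun x : p.ker => x ^ Fintype.card G := by
    refine ⟨fun x y h => ?_, fun y => ?_⟩
    · obtain ⟨z, -, hz⟩ := hdiv _ (x ^ Fintype.card G).2
      exact Subtype.ext ((hz x ⟨x.2, by simp⟩).trans (hz y ⟨y.2, by simpa using congrArg (fun w : p.ker => (w : E)) h.symm⟩).symm)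
    · obtain ⟨z, ⟨hz, hz'⟩, -⟩ := hdiv y y.2
      exact ⟨⟨z, hz⟩, Subtype.ext hz'⟩
  let P : G → p.ker := fun g => ∏ h, c g h
  have hP : ∀ g h, c g h ^ Fintype.card G * P (g * h) = act g (P h) * P g := by
    intro g h
    show c g h ^ Fintype.card G * ∏ i, c (g * h) i = act g (∏ i, c h i) * ∏ i, c g i
    rw [← Finset.card_univ, ← Finset.prod_const, ← Finset.prod_mul_distrib, map_prod,
      ← Equiv.prod_comp (Equiv.mulLeft h) (c g), ← Finset.prod_mul_distrib]
    exact Finset.prod_congr rfl fun i _ => hc g h i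
  choose v hv using fun g => hbij.2 (P g)⁻¹
  have hvc : ∀ g h, v g * act g (v h) * c g h = v (g * h) := fun g h => hbij.1 (by
    show (v g * act g (v h) * c g h) ^ Fintype.card G = v (g * h) ^ Fintype.card G
    simp only at hv
    rw [mul_pow, mul_pow, ← map_pow, hv, hv, hv, map_inv, eq_inv_iff_mul_eq_one, mul_assoc, hP]
    rw [← mul_inv, mul_comm (P g), inv_mul_cancel])
  refine ⟨MonoidHom.mk' (fun g => (v g : E) * a g) fun g h => ?_, fun g => ?_, fun σ g => ?_⟩
  · have e : (v g : E) * (a g * v h * (a g)⁻¹) * (a g * a h * (a (g * h))⁻¹) = v (g * h) :=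
      congrArg (fun w : p.ker => (w : E)) (hvc g h)
    rw [← e]
    group
  · show p ((v g : E) * a g) = j g
    rw [map_mul, show p (v g) = 1 from (v g).2, one_mul, ha]
  · show φ σ ((v g : E) * a g) = v (π σ g) * a (π σ g)
    rw [map_mul, hsym]
    congr 1
    let φ' : p.ker →* p.ker := MonoidHom.mk' (fun x => ⟨φ σ x, hφ σ x x.2⟩) fun x y => Subtype.ext (map_mul (φ σ) _ _)
    have hcφ : ∀ h i, φ' (c h i) = c (π σ h) (π σ i) := fun h i => Subtype.ext (by
      show φ σ (a h * a i * (a (h * i))⁻¹) = _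
      rw [map_mul, map_mul, map_inv, hsym, hsym, hsym, map_mul])
    have e : φ' (v g) = v (π σ g) := hbij.1 (by
      show φ' (v g) ^ Fintype.card G = v (π σ g) ^ Fintype.card G
      simp only at hv
      rw [← map_pow, hv, hv, map_inv, map_prod]
      refine congrArg _ ?_
      show _ = ∏ h, c (π σ g) h
      rw [← Equiv.prod_comp (π σ).toEquiv (c (π σ g))]
      exact Finset.prod_congr rfl fun h _ => hcφ g h)
    exact congrArg (fun w : p.ker => (w : E)) e

/-- Two sections are conjugate by an element of the kernel. -/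
theorem exists_conj (hcomm : ∀ x ∈ p.ker, ∀ y ∈ p.ker, x * y = y * x)
    (hdiv : ∀ x ∈ p.ker, ∃! y, y ∈ p.ker ∧ y ^ Fintype.card G = x) (s t : G →* E) (hs : ∀ g, p (s g) = j g)
    (ht : ∀ g, p (t g) = j g) : ∃ u ∈ p.ker, ∀ g, u * s g * u⁻¹ = t g := by
  classical
  letI := kerCommGroup p hcomm
  let act : G →* MulAut p.ker :=
    { toFun := fun g =>
        { toFun := fun x => ⟨s g * x * (s g)⁻¹, (MonoidHom.normal_ker p).conj_mem _ x.2 _⟩
          invFun := fun x => ⟨(s g)⁻¹ * x * s g, by simpa using (MonoidHom.normal_ker p).conj_mem _ x.2 (s g)⁻¹⟩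
          left_inv := fun x => Subtype.ext (show (s g)⁻¹ * (s g * (x : E) * (s g)⁻¹) * s g = x by group)
          right_inv := fun x => Subtype.ext (show s g * ((s g)⁻¹ * (x : E) * s g) * (s g)⁻¹ = x by group)
          map_mul' := fun x y => Subtype.ext
            (show s g * ((x : E) * y) * (s g)⁻¹ = s g * x * (s g)⁻¹ * (s g * y * (s g)⁻¹) by group) }
      map_one' := MulEquiv.ext fun x => Subtype.ext (show s 1 * (x : E) * (s 1)⁻¹ = x by rw [map_one]; group)
      map_mul' := fun g h => MulEquiv.ext fun x => Subtype.ext (show s (g * h) * (x : E) * (s (g * h))⁻¹ =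
          s g * (s h * x * (s h)⁻¹) * (s g)⁻¹ by rw [map_mul]; group) }
  let d : G → p.ker := fun g => ⟨t g * (s g)⁻¹, by rw [MonoidHom.mem_ker, map_mul, map_inv, hs, ht, mul_inv_cancel]⟩
  have hbij : Function.Bijective fun x : p.ker => x ^ Fintype.card G := by
    refine ⟨fun x y h => ?_, fun y => ?_⟩
    · obtain ⟨z, -, hz⟩ := hdiv _ (x ^ Fintype.card G).2
      exact Subtype.ext ((hz x ⟨x.2, by simp⟩).trans (hz y ⟨y.2, by simpa using congrArg (fun w : p.ker => (w : E)) h.symm⟩).symm)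
    · obtain ⟨z, ⟨hz, hz'⟩, -⟩ := hdiv y y.2
      exact ⟨⟨z, hz⟩, Subtype.ext hz'⟩
  obtain ⟨u, -, hu⟩ := UnipConjLib.exists_coboundary_comm act hbij d fun g h => Subtype.ext (by
    show t (g * h) * (s (g * h))⁻¹ = t g * (s g)⁻¹ * (s g * (t h * (s h)⁻¹) * (s g)⁻¹)
    rw [map_mul, map_mul]
    group)
  refine ⟨u, u.2, fun g => ?_⟩
  have e : t g * (s g)⁻¹ = (u : E) * (s g * (u : E) * (s g)⁻¹)⁻¹ := congrArg (fun w : p.ker => (w : E)) (hu g)
  rw [← inv_mul_cancel_right (t g) (s g), e]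
  group

end TorSecLib
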