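import Groth.Agent.UnipConjLib.Main
import Groth.Agent.AlgSpLib.ReducedSmooth
import Groth.Agent.UnipHopfLib.BaseChange
import Mathlib.RingTheory.HopfAlgebra.TensorProduct
import Mathlib.RingTheory.Finiteness.Descent
import Mathlib.RingTheory.Smooth.Basic

/-!
Points with values in an extension field, and torsion points of groups of multiplicative type.
-/

set_option autoImplicit false
set_option maxHeartbeats 800000

noncomputable section

universe u

open TensorProduct WithConv
open Groth.Agent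

namespace TorSecLib

attribute [local instance] HopfFF.pointsGroup
attribute [-instance] AlgHom.convInv AlgHom.convGroup

variable {k : Type u} [Field k] {F : Type u} [Field F] [Algebra k F] {C : Type u} [CommRing C] [HopfAlgebra k C]

/-- Points with values in an extension are points of the base change. -/
def ext : WithConv (F ⊗[k] C →ₐ[F] F) ≃* WithConv (C →ₐ[k] F) where
  toFun f := toConv ((f.ofConv.restrictScalars k).comp Algebra.TensorProduct.includeRight)
  invFun x := toConv (Algebra.TensorProduct.lift (AlgHom.id F F) x.ofConv fun _ _ => Commute.all _ _)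
  left_inv f := WithConv.ext (Algebra.TensorProduct.ext (AlgHom.ext fun c => by
      simpa using (f.ofConv.commutes c).symm) (AlgHom.ext fun c => by simp))
  right_inv x := WithConv.ext (AlgHom.ext fun c => by simp)
  map_mul' f g := WithConv.ext (AlgHom.ext fun c => by
    show (f * g) ((1 : F) ⊗ₜ[k] c) = _
    rw [AlgHom.convMul_apply, AlgHom.convMul_apply, show Coalgebra.comul (R := F) ((1 : F) ⊗ₜ[k] c) =
      UnipHopf.incSq (k' := F) (CoalgebraStruct.comul (R := k) c) from UnipHopf.comul_one_tmul c]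
    show _ = Algebra.TensorProduct.lift _ _ _ (CoalgebraStruct.comul (R := k) c)
    generalize CoalgebraStruct.comul (R := k) c = z
    induction z using TensorProduct.induction_on with
    | zero => simp
    | add x y hx hy => simp only [map_add, hx, hy]
    | tmul x y => simp)

theorem ext_apply (f : WithConv (F ⊗[k] C →ₐ[F] F)) (c : C) : (ext f).ofConv c = f.ofConv ((1 : F) ⊗ₜ[k] c) := rfl

theorem ext_symm_apply_tmul (x : WithConv (C →ₐ[k] F)) (r : F) (c : C) :
    (ext.symm x).ofConv (r ⊗ₜ[k] c) = r * x.ofConv c := by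
  simp [ext]

/-- Changing the values. -/
def pushHom {F' : Type u} [CommRing F'] [Algebra k F'] (f : F →ₐ[k] F') :
    WithConv (C →ₐ[k] F) →* WithConv (C →ₐ[k] F') :=
  MonoidHom.mk' (UnipSplit.push f) (UnipSplit.push_mul f)

theorem pushHom_apply {F' : Type u} [CommRing F'] [Algebra k F'] (f : F →ₐ[k] F') (x : WithConv (C →ₐ[k] F)) (c : C) :
    (pushHom f x).ofConv c = f (x.ofConv c) := rfl

theorem pushHom_injective {F' : Type u} [Field F'] [Algebra k F'] (f : F →ₐ[k] F') :
    Function.Injective (pushHom (C := C) f) := fun x y h =>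
  WithConv.ext (AlgHom.ext fun c => f.injective (congrArg (fun w : WithConv (C →ₐ[k] F') => w.ofConv c) h))

theorem resHom_pushHom {D : Type u} [CommRing D] [HopfAlgebra k D] (φ : D →ₐc[k] C) {F' : Type u} [CommRing F']
    [Algebra k F'] (f : F →ₐ[k] F') (x : WithConv (C →ₐ[k] F)) :
    UnipConjLib.resHom F' φ (pushHom f x) = pushHom f (UnipConjLib.resHom F φ x) := rfl

theorem resHom_ext {D : Type u} [CommRing D] [HopfAlgebra k D] (φ : D →ₐc[k] C) (f : WithConv (F ⊗[k] C →ₐ[F] F)) :
    UnipConjLib.resHom F φ (ext f) =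
      ext (UnipConjLib.resHom F (Bialgebra.TensorProduct.map (BialgHom.id F F) φ) f) :=
  WithConv.ext (AlgHom.ext fun d => rfl)

section kernel

variable {A : Type u} [CommRing A] [HopfAlgebra k A] {B : Type u} [CommRing B] [HopfAlgebra k B] {ψ : B →ₐc[k] A}
  {J : Ideal A} [J.IsHopfIdeal k]

/-- The kernel as points of the quotient. -/
theorem exists_kerEquiv (hJ : J = Ideal.map (ψ : B →+* A) (RingHom.ker (Bialgebra.counitAlgHom k B))) :
    Nonempty (WithConv (A ⧸ J →ₐ[k] F) ≃* (UnipConjLib.resHom F ψ).ker) := by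
  let q : A →ₐc[k] A ⧸ J := Bialgebra.Quotient.mkBialgHom (R := k) J
  let f : WithConv (A ⧸ J →ₐ[k] F) →* (UnipConjLib.resHom F ψ).ker :=
    MonoidHom.mk' (fun g => ⟨UnipSplit.pull q g.ofConv, (UnipConjLib.mem_ker_resHom_iff hJ).2 fun a ha => by
      show g.ofConv (Ideal.Quotient.mk J a) = 0
      rw [Ideal.Quotient.eq_zero_iff_mem.2 ha, map_zero]⟩)
      fun g g' => Subtype.ext (UnipSplit.pull_mul q g.ofConv g'.ofConv).symm
  have hf : Function.Bijective f := by
    refine ⟨fun g g' e => WithConv.ext (AlgHom.ext fun x => ?_), fun e => ?_⟩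
    · obtain ⟨a, rfl⟩ := Ideal.Quotient.mk_surjective x
      exact congrArg (fun w : (UnipConjLib.resHom F ψ).ker => (w : WithConv (A →ₐ[k] F)).ofConv a) e
    · exact ⟨toConv (Ideal.Quotient.liftₐ J (e : WithConv (A →ₐ[k] F)).ofConv
        ((UnipConjLib.mem_ker_resHom_iff hJ).1 e.2)), Subtype.ext (WithConv.ext (AlgHom.ext fun a => rfl))⟩
  exact ⟨MulEquiv.ofBijective f hf⟩

theorem ker_comm (hJ : J = Ideal.map (ψ : B →+* A) (RingHom.ker (Bialgebra.counitAlgHom k B)))
    [Coalgebra.IsCocomm k (A ⧸ J)] :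
    ∀ x ∈ (UnipConjLib.resHom F ψ).ker, ∀ y ∈ (UnipConjLib.resHom F ψ).ker, x * y = y * x := by
  obtain ⟨E⟩ := exists_kerEquiv (F := F) hJ
  intro x hx y hy
  obtain ⟨g, hg⟩ := E.surjective ⟨x, hx⟩
  obtain ⟨g', hg'⟩ := E.surjective ⟨y, hy⟩
  have h : g * g' = g' * g := WithConv.ext (AlgHom.ext fun c => by
    rw [AlgHom.convMul_apply, AlgHom.convMul_apply]
    conv_rhs => rw [← Coalgebra.comm_comul (R := k) c]
    generalize Coalgebra.comul (R := k) c = z
    induction z using TensorProduct.induction_on with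
    | zero => simp
    | add p q hp hq => simp only [map_add, hp, hq]
    | tmul p q => simp [mul_comm])
  have := congrArg E h
  rw [map_mul, map_mul, hg, hg'] at this
  exact congrArg (fun w : (UnipConjLib.resHom F ψ).ker => (w : WithConv (A →ₐ[k] F))) this

theorem ker_div [Algebra.FiniteType k A] (hJ : J = Ideal.map (ψ : B →+* A) (RingHom.ker (Bialgebra.counitAlgHom k B)))
    (hU : HopfRep.IsUnipotent k (A ⧸ J)) {n : ℕ} (hn : (n : F) ≠ 0) :
    ∀ x ∈ (UnipConjLib.resHom F ψ).ker, ∃! y, y ∈ (UnipConjLib.resHom F ψ).ker ∧ y ^ n = x := by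
  obtain ⟨E⟩ := exists_kerEquiv (F := F) hJ
  haveI : Algebra.FiniteType k (A ⧸ J) := Algebra.FiniteType.of_surjective (Ideal.Quotient.mkₐ k J)
    (Ideal.Quotient.mkₐ_surjective k J)
  have hb := UnipConjLib.pow_bijective_points (k := F)
    (UnipHopf.exhaustive_baseChange (k' := F) (UnipHopf.exhaustive_of_isUnipotent hU)) hn
  let Φ := (ext (k := k) (F := F) (C := A ⧸ J)).trans E
  have hΦ : Function.Bijective fun w : (UnipConjLib.resHom F ψ).ker => w ^ n := by
    have h : (fun w : (UnipConjLib.resHom F ψ).ker => w ^ n) = Φ ∘ (fun g => g ^ n) ∘ Φ.symm :=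
      funext fun w => by simp [map_pow]
    rw [h]
    exact Φ.bijective.comp (hb.comp Φ.symm.bijective)
  intro x hx
  obtain ⟨w, hw⟩ := hΦ.2 ⟨x, hx⟩
  refine ⟨w, ⟨w.2, congrArg (fun w : (UnipConjLib.resHom F ψ).ker => (w : WithConv (A →ₐ[k] F))) hw⟩, ?_⟩
  rintro y ⟨hy, hyn⟩
  exact congrArg (fun w : (UnipConjLib.resHom F ψ).ker => (w : WithConv (A →ₐ[k] F)))
    (hΦ.1 (show (⟨y, hy⟩ : (UnipConjLib.resHom F ψ).ker) ^ n = w ^ n from (Subtype.ext hyn).trans hw.symm))

end kernel

section torsion

variable {B : Type u} [CommRing B] [HopfAlgebra k B] {M : Type u} [CommGroup M]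
  (e : F ⊗[k] B ≃ₐc[F] MonoidAlgebra F M)

include e in
theorem mul_comm_pts (x y : WithConv (B →ₐ[k] F)) : x * y = y * x := by
  obtain ⟨f, rfl⟩ := (ext (k := k) (F := F) (C := B)).surjective x
  obtain ⟨g, rfl⟩ := (ext (k := k) (F := F) (C := B)).surjective y
  rw [← map_mul, ← map_mul, UnipConjLib.mul_comm_points e f g]

/-- The torsion points. -/
def tor (n : ℕ) : Subgroup (WithConv (B →ₐ[k] F)) :=
  ((ext (k := k) (F := F) (C := B)).toMonoidHom.comp (UnipConjLib.charPt e n)).range

theorem finite_tor [Group.FG M] {n : ℕ} (hn : (n : F) ≠ 0) : Finite (tor e n) := by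
  haveI : NeZero n := ⟨fun h => hn (by rw [h, Nat.cast_zero])⟩
  haveI := UnipConjLib.finite_chars (k := F) (M := M) n
  exact Finite.of_surjective _ (MonoidHom.rangeRestrict_surjective _)

theorem card_tor_ne_zero [Group.FG M] {n : ℕ} (hn : (n : F) ≠ 0) : ((Nat.card (tor e n) : ℕ) : F) ≠ 0 := by
  haveI : NeZero n := ⟨fun h => hn (by rw [h, Nat.cast_zero])⟩
  haveI := UnipConjLib.finite_chars (k := F) (M := M) n
  letI : Fintype (M →* rootsOfUnity n F) := Fintype.ofFinite _
  have hd := Subgroup.card_range_dvd ((ext (k := k) (F := F) (C := B)).toMonoidHom.comp (UnipConjLib.charPt e n))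
  rw [Nat.card_eq_fintype_card (α := M →* rootsOfUnity n F)] at hd
  obtain ⟨c, hc⟩ := hd
  intro h
  apply UnipConjLib.card_chars_ne_zero (M := M) hn
  rw [tor] at h
  rw [hc, Nat.cast_mul, h, zero_mul]

theorem pow_apply_groupLike {D : Type u} [CommRing D] [HopfAlgebra F D] (f : WithConv (D →ₐ[F] F)) {g : D}
    (hg : IsGroupLikeElem F g) (n : ℕ) : (f ^ n).ofConv g = f.ofConv g ^ n := by
  induction n with
  | zero =>
    rw [pow_zero, pow_zero]
    show (1 : WithConv (D →ₐ[F] F)) g = 1
    rw [AlgHom.convOne_apply, show Coalgebra.counit (R := F) g = 1 from hg.counit_eq_one, map_one]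
  | succ n ih =>
    rw [pow_succ, pow_succ]
    show (f ^ n * f) g = _
    rw [AlgHom.convMul_apply, show Coalgebra.comul (R := F) g = g ⊗ₜ[F] g from hg.comul_eq_tmul_self]
    simp [ih]

theorem mem_tor_iff {n : ℕ} (hn : n ≠ 0) (h : WithConv (B →ₐ[k] F)) : h ∈ tor e n ↔ h ^ n = 1 := by
  constructor
  · rintro ⟨χ, rfl⟩
    rw [← map_pow, show χ ^ n = 1 from MonoidHom.ext fun m => Subtype.ext ((mem_rootsOfUnity n _).1 (χ m).2), map_one]
  · intro hh
    obtain ⟨f, rfl⟩ := (ext (k := k) (F := F) (C := B)).surjective h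
    rw [← map_pow, EmbeddingLike.map_eq_one_iff] at hh
    have hgl : ∀ m : M, IsGroupLikeElem F (e.symm (MonoidAlgebra.single m 1)) := fun m =>
      (MonoidAlgebra.isGroupLikeElem_single_one m).map (e.symm : MonoidAlgebra F M →ₐc[F] F ⊗[k] B)
    have hval : ∀ m : M, f.ofConv (e.symm (MonoidAlgebra.single m 1)) ^ n = 1 := fun m => by
      rw [← pow_apply_groupLike f (hgl m), hh]
      show (1 : WithConv (F ⊗[k] B →ₐ[F] F)) _ = 1
      rw [AlgHom.convOne_apply, (hgl m).counit_eq_one, map_one]
    let χ : M →* rootsOfUnity n F := MonoidHom.codRestrict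
      (MonoidHom.mk' (fun m => Units.ofPowEqOne _ n (hval m) hn) fun a b => Units.ext (by
        show f.ofConv (e.symm (MonoidAlgebra.single (a * b) 1)) = _ * _
        show _ = f.ofConv (e.symm (MonoidAlgebra.single a 1)) * f.ofConv (e.symm (MonoidAlgebra.single b 1))
        rw [← map_mul, ← map_mul, MonoidAlgebra.single_mul_single, one_mul]))
      _ fun m => (mem_rootsOfUnity n _).2 (Units.ext (hval m))
    refine ⟨χ, ?_⟩
    show ext (UnipConjLib.charPt e n χ) = ext f
    congr 1
    refine WithConv.ext (AlgHom.ext fun z => ?_)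
    obtain ⟨w, rfl⟩ : ∃ w, e.symm w = z := ⟨e z, e.symm_apply_apply z⟩
    induction w using MonoidAlgebra.induction_linear with
    | zero => simp
    | add x y hx hy => rw [map_add, map_add, map_add, hx, hy]
    | single m r =>
      rw [show (MonoidAlgebra.single m r : MonoidAlgebra F M) = r • MonoidAlgebra.single m 1 by simp, map_smul,
        map_smul, map_smul]
      congr 1
      simp [UnipConjLib.charPt, χ]

include e in
/-- Smooth groups of multiplicative type have character groups without `p`-torsion. -/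
theorem no_torsion [Algebra.FormallySmooth k B] [Algebra.FiniteType k B] (q : ℕ) [ExpChar F q] {m : M} {i : ℕ}
    (hm : m ^ q ^ i = 1) : m = 1 := by
  haveI : Algebra.Smooth k B := ⟨inferInstance, Algebra.FinitePresentation.of_finiteType.1 inferInstance⟩
  haveI : _root_.IsReduced (F ⊗[k] B) := by
    have hs : AlgebraicGeometry.Smooth (AlgebraicGeometry.Spec.map (CommRingCat.ofHom (algebraMap F (F ⊗[k] B)))) := by
      rw [AlgebraicGeometry.HasRingHomProperty.Spec_iff (P := @AlgebraicGeometry.Smooth)]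
      exact RingHom.smooth_algebraMap.mpr inferInstance
    haveI := AlgSpLib.isReduced_of_smooth (AlgebraicGeometry.Spec.map (CommRingCat.ofHom (algebraMap F (F ⊗[k] B))))
    exact (AlgebraicGeometry.affine_isReduced_iff (CommRingCat.of (F ⊗[k] B))).mp this
  rcases ‹ExpChar F q› with _ | hq
  · simpa using hm
  haveI : Fact q.Prime := ⟨hq⟩
  haveI := (Bialgebra.counitAlgHom F (F ⊗[k] B)).toRingHom.domain_nontrivial
  haveI : CharP (F ⊗[k] B) q := charP_of_injective_algebraMap (algebraMap F (F ⊗[k] B)).injective q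
  have h : e.symm (MonoidAlgebra.single m (1 : F)) - 1 = 0 := IsNilpotent.eq_zero ⟨q ^ i, by
    rw [sub_pow_char_pow, one_pow, ← map_pow, MonoidAlgebra.single_pow, hm, one_pow, ← MonoidAlgebra.one_def,
      map_one, sub_self]⟩
  rw [sub_eq_zero, ← map_one e.symm] at h
  exact MonoidAlgebra.single_left_injective one_ne_zero
    ((EquivLike.injective e.symm h).trans MonoidAlgebra.one_def)

omit k in
theorem slicePt_trivial {D : Type u} [CommRing D] [HopfAlgebra F D] {P : Type u} [CommGroup P]
    (e : D ≃ₐc[F] MonoidAlgebra F P) {n : ℕ} (χ : P →* rootsOfUnity n F) (z : D) :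
    UnipConjLib.slicePt e (1 : P →* PUnit.{u + 1}) χ z = algebraMap F _ ((UnipConjLib.charPt e n χ).ofConv z) := by
  obtain ⟨w, rfl⟩ : ∃ w, e.symm w = z := ⟨e z, e.symm_apply_apply z⟩
  induction w using MonoidAlgebra.induction_linear with
  | zero => simp
  | add x y hx hy => simp only [map_add, hx, hy]
  | single m r =>
    rw [UnipConjLib.slicePt_single]
    simp [UnipConjLib.charPt]

include e in
/-- Torsion points of orders divisible by a given one are dense. -/
theorem eq_zero_of_tor [IsSepClosed F] [Group.FG M] [Algebra.FormallySmooth k B] [Algebra.FiniteType k B] {n₀ : ℕ}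
    (hn₀ : (n₀ : F) ≠ 0) {z : F ⊗[k] B}
    (h : ∀ n : ℕ, (n : F) ≠ 0 → n₀ ∣ n → ∀ x ∈ tor e n, (ext.symm x).ofConv z = 0) : z = 0 := by
  obtain ⟨q, hq⟩ := ExpChar.exists F
  refine UnipConjLib.eq_zero_of_slices e q (1 : M →* PUnit.{u + 1}) (fun m i hm _ => no_torsion e q hm) fun n hn χ => ?_
  have hx : ext (UnipConjLib.charPt e n χ) ∈ tor e (n₀ * n) := by
    rw [mem_tor_iff e (mul_ne_zero (fun h => hn₀ (by rw [h, Nat.cast_zero])) (fun h => hn (by rw [h, Nat.cast_zero]))),
      ← map_pow, ← map_pow, mul_comm, pow_mul,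
      show χ ^ n = 1 from MonoidHom.ext fun m => Subtype.ext ((mem_rootsOfUnity n _).1 (χ m).2), one_pow, map_one,
      map_one]
  have h1 := h (n₀ * n) (by rw [Nat.cast_mul]; exact mul_ne_zero hn₀ hn) (Dvd.intro _ rfl) _ hx
  rw [MulEquiv.symm_apply_apply] at h1
  rw [slicePt_trivial e χ z, h1, map_zero]

end torsion

end TorSecLib
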